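import Cfsg.Agent.Lib.Helper51.Zass.Defs

/-!
# ZASS (S0690), package [RL]: the ring lemma

A finite ring spanned by 8 elements over a central subset maps to `M₂(E)` for a finite field `E`
(maximal two-sided ideal, Wedderburn-Artin, little Wedderburn).
-/

set_option autoImplicit false

namespace Cfsg.Agent.Lib.Helper84.Zass

open Cfsg.Agent.Lib.Helper51.Zass

universe u

/-- the ring homomorphism `M₁(D) → M₂(D)`, `A ↦ A 0 0 • 1` -/
def oneToTwo (D : Type u) [CommRing D] :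
    Matrix (Fin 1) (Fin 1) D →+* Matrix (Fin 2) (Fin 2) D :=
  (Matrix.scalar (Fin 2)).comp (Matrix.uniqueRingEquiv (m := Fin 1) (A := D)).toRingHom

/-- the dimension count: a surjective ring hom from a ring spanned by 8 elements over a central
subset onto `M_n(E)`, `E` a field, forces `n ≤ 2`. -/
theorem dim_le_two (R : Type u) [Ring R] (Zc : Set R) (hZc : ∀ z ∈ Zc, ∀ x : R, z * x = x * z)
    (r : Fin 8 → R) (hspan : ∀ x : R, ∃ c : Fin 8 → R, (∀ i, c i ∈ Zc) ∧ x = ∑ i, c i * r i)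
    (E : Type u) [Field E] (n : ℕ) (ψ : R →+* Matrix (Fin n) (Fin n) E)
    (hψ : Function.Surjective ψ) : n ≤ 2 := by
  classical
  have hcen : ∀ z ∈ Zc, ∃ d : E, ψ z = Matrix.scalar (Fin n) d := by
    intro z hz
    have h1 : ψ z ∈ Set.center (Matrix (Fin n) (Fin n) E) := by
      rw [Semigroup.mem_center_iff]
      intro y
      obtain ⟨x, rfl⟩ := hψ y
      rw [← map_mul, ← map_mul, hZc z hz x]
    rw [Matrix.center_eq_range] at h1
    obtain ⟨d, hd⟩ := h1
    exact ⟨d, hd.symm⟩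
  have htop : Submodule.span E (Set.range (fun i : Fin 8 => ψ (r i))) = ⊤ := by
    rw [eq_top_iff]
    intro y _
    obtain ⟨x, rfl⟩ := hψ y
    obtain ⟨c, hc, rfl⟩ := hspan x
    rw [map_sum]
    apply Submodule.sum_mem
    intro i _
    obtain ⟨d, hd⟩ := hcen (c i) (hc i)
    rw [map_mul, hd, Matrix.scalar_apply, ← Matrix.smul_eq_diagonal_mul]
    exact Submodule.smul_mem _ _ (Submodule.subset_span ⟨i, rfl⟩)
  have h1 : Module.finrank E (Matrix (Fin n) (Fin n) E) ≤ 8 := by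
    have h2 := finrank_range_le_card (R := E) (fun i : Fin 8 => ψ (r i))
    unfold Set.finrank at h2
    rw [htop, finrank_top] at h2
    simpa using h2
  rw [Module.finrank_matrix] at h1
  simp only [Fintype.card_fin, Module.finrank_self, mul_one] at h1
  by_contra hn
  have hn3 : 3 ≤ n := by omega
  nlinarith

/-- a finite `ZMod p`-algebra spanned by 8 elements over a central subset has a ring homomorphism
to `M₂(E)` for a finite field `E` of characteristic `p`. -/
theorem ring_to_mat2 (p : ℕ) [Fact p.Prime] (R : Type u) [Ring R] [Algebra (ZMod p) R]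
    [Finite R] [Nontrivial R]
    (Zc : Set R) (hZc : ∀ z ∈ Zc, ∀ x : R, z * x = x * z)
    (r : Fin 8 → R) (hspan : ∀ x : R, ∃ c : Fin 8 → R, (∀ i, c i ∈ Zc) ∧ x = ∑ i, c i * r i) :
    ∃ (E : Type u) (_ : Field E) (_ : Finite E) (_ : CharP E p),
      Nonempty (R →+* Matrix (Fin 2) (Fin 2) E) := by
  classical
  obtain ⟨m, ⟨hm2, hmtop⟩, hmax⟩ := WellFounded.has_min (wellFounded_gt (α := Ideal R))
    {I : Ideal R | I.IsTwoSided ∧ I ≠ ⊤} ⟨⊥, inferInstance, bot_ne_top⟩
  haveI := hm2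
  haveI : Nontrivial (R ⧸ m) := Ideal.Quotient.nontrivial_iff.mpr hmtop
  haveI : Finite (R ⧸ m) :=
    Finite.of_surjective (Ideal.Quotient.mk m) Ideal.Quotient.mk_surjective
  haveI : IsSimpleRing (R ⧸ m) := by
    rw [isSimpleRing_iff_isTwoSided_imp]
    refine ⟨inferInstance, fun J hJ => ?_⟩
    haveI := hJ
    by_cases hI : Ideal.comap (Ideal.Quotient.mk m) J = ⊤
    · right
      rw [Ideal.eq_top_iff_one]
      have h1 : (1 : R) ∈ Ideal.comap (Ideal.Quotient.mk m) J := by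
        rw [hI]
        trivial
      rw [Ideal.mem_comap, map_one] at h1
      exact h1
    · left
      have hle : m ≤ Ideal.comap (Ideal.Quotient.mk m) J := by
        intro x hx
        rw [Ideal.mem_comap, Ideal.Quotient.eq_zero_iff_mem.mpr hx]
        exact J.zero_mem
      have heq : Ideal.comap (Ideal.Quotient.mk m) J = m := by
        by_contra hne'
        exact hmax _ ⟨inferInstance, hI⟩ (lt_of_le_of_ne hle (Ne.symm hne'))
      rw [eq_bot_iff]
      intro x hx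
      obtain ⟨y, rfl⟩ := Ideal.Quotient.mk_surjective x
      have hy : y ∈ m := by
        rw [← heq]
        exact hx
      rw [Ideal.mem_bot]
      exact Ideal.Quotient.eq_zero_iff_mem.mpr hy
  obtain ⟨n, hn, D, instD, instA, instF, ⟨e⟩⟩ :=
    IsSimpleRing.exists_algEquiv_matrix_divisionRing_finite (ZMod p) (R ⧸ m)
  haveI : Finite D := Module.finite_of_finite (ZMod p)
  letI instFld : Field D := littleWedderburn D
  haveI : CharP D p :=
    charP_of_injective_algebraMap (algebraMap (ZMod p) D).injective p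
  obtain ⟨ψ, hψ⟩ : ∃ ψ : R →+* Matrix (Fin n) (Fin n) D, Function.Surjective ψ :=
    ⟨(e : (R ⧸ m) →+* Matrix (Fin n) (Fin n) D).comp (Ideal.Quotient.mk m),
      e.surjective.comp Ideal.Quotient.mk_surjective⟩
  have hn2 : n ≤ 2 := dim_le_two R Zc hZc r hspan D n ψ hψ
  have hn0 : n ≠ 0 := hn.out
  refine ⟨D, instFld, inferInstance, inferInstance, ?_⟩
  have hcases : n = 1 ∨ n = 2 := by omega
  rcases hcases with rfl | rfl
  · exact ⟨(oneToTwo D).comp ψ⟩
  · exact ⟨ψ⟩

theorem pkgRL : PkgRL.{u} := by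
  intro p _ V _ _ _ _ G _ _ ρ hfpf S Z hZcomm hZS r hr h1 hS
  classical
  have hAfin : Finite (Module.End (ZMod p) V) :=
    Finite.of_injective (fun f : Module.End (ZMod p) V => (f : V → V)) DFunLike.coe_injective
  obtain ⟨M0, hM0⟩ : ∃ M0 : Set (Module.End (ZMod p) V), M0 =
      {x | ∃ c : Fin 8 → Module.End (ZMod p) V, (∀ i, c i ∈ Z) ∧ x = ∑ i, c i * r i} := ⟨_, rfl⟩
  have hM0add : ∀ x ∈ M0, ∀ y ∈ M0, x + y ∈ M0 := by
    rw [hM0]
    rintro _ ⟨c, hc, rfl⟩ _ ⟨c', hc', rfl⟩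
    refine ⟨fun i => c i + c' i, fun i => Z.add_mem (hc i) (hc' i), ?_⟩
    rw [← Finset.sum_add_distrib]
    exact Finset.sum_congr rfl (fun i _ => (add_mul _ _ _).symm)
  have hM0Z : ∀ z ∈ Z, ∀ x ∈ M0, z * x ∈ M0 := by
    rw [hM0]
    rintro z hz _ ⟨c, hc, rfl⟩
    refine ⟨fun i => z * c i, fun i => Z.mul_mem hz (hc i), ?_⟩
    rw [Finset.mul_sum]
    exact Finset.sum_congr rfl (fun i _ => (mul_assoc _ _ _).symm)
  have hM0smul : ∀ (a : ZMod p), ∀ x ∈ M0, a • x ∈ M0 := by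
    rw [hM0]
    rintro a _ ⟨c, hc, rfl⟩
    refine ⟨fun i => a • c i, fun i => Z.smul_mem (hc i) a, ?_⟩
    rw [Finset.smul_sum]
    exact Finset.sum_congr rfl (fun i _ => (smul_mul_assoc _ _ _).symm)
  have hM0S : ∀ s ∈ S, ∀ x ∈ M0, ρ s * x ∈ M0 := by
    rw [hM0]
    rintro s hs _ ⟨c, hc, rfl⟩
    choose d hdZ hd using hS s hs
    refine ⟨fun i => ∑ j, c j * d j i,
      fun i => Z.sum_mem (fun j _ => Z.mul_mem (hc j) (hdZ j i)), ?_⟩
    rw [Finset.mul_sum]
    have h2 : ∀ j, ρ s * (c j * r j) = ∑ i, c j * d j i * r i := by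
      intro j
      rw [← mul_assoc, ← hZS (c j) (hc j) s hs, mul_assoc, hd j, Finset.mul_sum]
      exact Finset.sum_congr rfl (fun i _ => (mul_assoc _ _ _).symm)
    simp_rw [h2]
    rw [Finset.sum_comm]
    exact Finset.sum_congr rfl (fun i _ => (Finset.sum_mul _ _ _).symm)
  have hM0pow : ∀ (a : Module.End (ZMod p) V), (∀ x ∈ M0, a * x ∈ M0) →
      ∀ (k : ℕ), ∀ x ∈ M0, a ^ k * x ∈ M0 := by
    intro a ha k
    induction k with
    | zero =>
      intro x hx
      rwa [pow_zero, one_mul]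
    | succ k ih =>
      intro x hx
      rw [pow_succ, mul_assoc]
      exact ih _ (ha x hx)
  have hM0cl : ∀ h ∈ Subgroup.closure S, ∀ x ∈ M0, ρ h * x ∈ M0 := by
    intro h hh
    refine Subgroup.closure_induction (p := fun h _ => ∀ x ∈ M0, ρ h * x ∈ M0) ?_ ?_ ?_ ?_ hh
    · exact fun s hs => hM0S s hs
    · intro x hx
      rwa [map_one, one_mul]
    · intro a b _ _ ha hb x hx
      rw [map_mul, mul_assoc]
      exact ha _ (hb x hx)
    · intro a _ ha x hx
      have h2 : a⁻¹ = a ^ (orderOf a - 1) := by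
        apply inv_eq_of_mul_eq_one_right
        rw [← pow_succ', Nat.sub_add_cancel (orderOf_pos a), pow_orderOf_eq_one]
      rw [h2, map_pow]
      exact hM0pow _ ha _ x hx
  obtain ⟨R, hR⟩ : ∃ R : Subalgebra (ZMod p) (Module.End (ZMod p) V), R =
      Algebra.adjoin (ZMod p)
        ((Z : Set (Module.End (ZMod p) V)) ∪ ρ '' (Subgroup.closure S : Set G)) := ⟨_, rfl⟩
  have hZR : ∀ z ∈ Z, z ∈ R := fun z hz => hR ▸ Algebra.subset_adjoin (Or.inl hz)
  have hρR : ∀ g ∈ Subgroup.closure S, ρ g ∈ R :=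
    fun g hg => hR ▸ Algebra.subset_adjoin (Or.inr ⟨g, hg, rfl⟩)
  have hrR : ∀ i, r i ∈ R := fun i => hR ▸ hr i
  have hRM0 : ∀ x ∈ R, ∀ y ∈ M0, x * y ∈ M0 := by
    intro x hx
    rw [hR] at hx
    refine Algebra.adjoin_induction (p := fun x _ => ∀ y ∈ M0, x * y ∈ M0) ?_ ?_ ?_ ?_ hx
    · rintro x (hxZ | ⟨h, hh, rfl⟩)
      · exact hM0Z x hxZ
      · exact hM0cl h hh
    · intro a y hy
      rw [Algebra.algebraMap_eq_smul_one, smul_mul_assoc, one_mul]
      exact hM0smul a y hy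
    · intro x y _ _ hx hy z hz
      rw [add_mul]
      exact hM0add _ (hx z hz) _ (hy z hz)
    · intro x y _ _ hx hy z hz
      rw [mul_assoc]
      exact hx _ (hy z hz)
  have h1M0 : (1 : Module.End (ZMod p) V) ∈ M0 := by
    rw [hM0]
    exact h1
  have hRsub : ∀ x ∈ R, ∃ c : Fin 8 → Module.End (ZMod p) V,
      (∀ i, c i ∈ Z) ∧ x = ∑ i, c i * r i := by
    intro x hx
    have h2 := hRM0 x hx 1 h1M0
    rw [mul_one, hM0] at h2
    exact h2
  have hZcl : ∀ z ∈ Z, ∀ h ∈ Subgroup.closure S, z * ρ h = ρ h * z := by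
    intro z hz h hh
    refine Subgroup.closure_induction (p := fun h _ => z * ρ h = ρ h * z) ?_ ?_ ?_ ?_ hh
    · intro s hs
      exact hZS z hz s hs
    · rw [map_one, mul_one, one_mul]
    · intro a b _ _ ha hb
      rw [map_mul, ← mul_assoc, ha, mul_assoc, hb, mul_assoc]
    · intro a _ ha
      have e1 : ρ a⁻¹ * ρ a = 1 := by rw [← map_mul, inv_mul_cancel, map_one]
      have e2 : ρ a * ρ a⁻¹ = 1 := by rw [← map_mul, mul_inv_cancel, map_one]
      calc z * ρ a⁻¹ = (ρ a⁻¹ * ρ a) * z * ρ a⁻¹ := by rw [e1, one_mul]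
        _ = ρ a⁻¹ * (ρ a * z) * ρ a⁻¹ := by rw [mul_assoc (ρ a⁻¹)]
        _ = ρ a⁻¹ * (z * ρ a) * ρ a⁻¹ := by rw [ha]
        _ = ρ a⁻¹ * z * (ρ a * ρ a⁻¹) := by simp only [mul_assoc]
        _ = ρ a⁻¹ * z := by rw [e2, mul_one]
  have hZcen : ∀ z ∈ Z, ∀ x ∈ R, z * x = x * z := by
    intro z hz x hx
    rw [hR] at hx
    refine Algebra.adjoin_induction (p := fun x _ => z * x = x * z) ?_ ?_ ?_ ?_ hx
    · rintro x (hxZ | ⟨h, hh, rfl⟩)
      · exact hZcomm z hz x hxZ
      · exact hZcl z hz h hh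
    · intro a
      exact (Algebra.commutes a z).symm
    · intro x y _ _ hx hy
      rw [mul_add, add_mul, hx, hy]
    · intro x y _ _ hx hy
      rw [← mul_assoc, hx, mul_assoc, hy, mul_assoc]
  haveI : Finite ↥R :=
    Finite.of_injective (fun x : ↥R => (x : Module.End (ZMod p) V)) Subtype.val_injective
  haveI : Nontrivial ↥R := by
    obtain ⟨v, hv⟩ := exists_ne (0 : V)
    refine ⟨⟨0, 1, fun h => hv ?_⟩⟩
    have h2 : ((0 : ↥R) : Module.End (ZMod p) V) v = ((1 : ↥R) : Module.End (ZMod p) V) v := by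
      rw [h]
    simpa using h2.symm
  obtain ⟨E, instE, finE, charE, ⟨Ψ⟩⟩ := ring_to_mat2 p ↥R
    {x : ↥R | (x : Module.End (ZMod p) V) ∈ Z}
    (by
      intro z hz x
      apply Subtype.ext
      exact hZcen z hz x x.2)
    (fun i => ⟨r i, hrR i⟩)
    (by
      intro x
      obtain ⟨c, hc, hx⟩ := hRsub x x.2
      refine ⟨fun i => ⟨c i, hZR _ (hc i)⟩, fun i => hc i, ?_⟩
      apply Subtype.ext
      rw [hx, AddSubmonoidClass.coe_finsetSum]
      rfl)
  have hunit : ∀ g : G, ∀ hg : g ∈ Subgroup.closure S, g ≠ 1 →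
      IsUnit ((⟨ρ g, hρR g hg⟩ : ↥R) - 1) := by
    intro g hg hg1
    obtain ⟨x, hx⟩ : ∃ x : ↥R, x = (⟨ρ g, hρR g hg⟩ : ↥R) - 1 := ⟨_, rfl⟩
    have hxv : ∀ v : V, (x : Module.End (ZMod p) V) v = ρ g v - v := by
      intro v
      rw [hx]
      rfl
    have hxinj : ∀ v : V, (x : Module.End (ZMod p) V) v = 0 → v = 0 := by
      intro v hv
      apply hfpf g hg1 v
      rw [hxv, sub_eq_zero] at hv
      exact hv
    have hLinj : Function.Injective (fun y : ↥R => x * y) := by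
      intro y y' hyy
      apply Subtype.ext
      apply LinearMap.ext
      intro v
      have h3 : (x : Module.End (ZMod p) V) ((y : Module.End (ZMod p) V) v) =
          (x : Module.End (ZMod p) V) ((y' : Module.End (ZMod p) V) v) :=
        congrArg (fun t : ↥R => (t : Module.End (ZMod p) V) v) hyy
      have h4 := hxinj ((y : Module.End (ZMod p) V) v - (y' : Module.End (ZMod p) V) v)
        (by rw [map_sub, h3, sub_self])
      exact sub_eq_zero.mp h4
    obtain ⟨w, hw⟩ := (Finite.injective_iff_surjective.mp hLinj) 1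
    have hw1 : x * w = 1 := hw
    have hw2 : w * x = 1 := by
      apply hLinj
      show x * (w * x) = x * 1
      rw [← mul_assoc, hw1, one_mul, mul_one]
    rw [← hx]
    exact ⟨⟨x, w, hw1, hw2⟩, rfl⟩
  obtain ⟨φ₁, hφ₁⟩ : ∃ φ₁ : ↥(Subgroup.closure S) →* ↥R,
      ∀ g : ↥(Subgroup.closure S), φ₁ g = ⟨ρ (g : G), hρR g g.2⟩ :=
    ⟨{ toFun := fun g => ⟨ρ (g : G), hρR g g.2⟩
       map_one' := by
         apply Subtype.ext
         simp
       map_mul' := by
         intro a b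
         apply Subtype.ext
         simp }, fun _ => rfl⟩
  refine ⟨E, instE, finE, charE, (Ψ.toMonoidHom.comp φ₁).toHomUnits, ?_⟩
  intro g hg
  have hg1 : (g : G) ≠ 1 := fun h => hg (Subtype.ext h)
  have h3 := (hunit g g.2 hg1).map Ψ
  rw [map_sub, map_one] at h3
  rw [MonoidHom.coe_toHomUnits]
  show IsUnit (Ψ (φ₁ g) - 1)
  rw [hφ₁]
  exact h3

end Cfsg.Agent.Lib.Helper84.Zass
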